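import Mathlib
import Cfsg.Agent.H70.ChevDiag
import Cfsg.Agent.CpAut.RgdTwStd
set_option linter.all false

/-!
# Diagonal automorphisms of twisted groups

For a character `χ` of the root lattice such that conjugation by `dG D χ` preserves the subgroup `G` of the general
linear group: `dgA` is the induced automorphism of `G`; it fixes the diagonal subgroup, the root groups of a folded
group and acts on `yv (xG hD) φ o a` by `a ↦ χ a`.
-/

set_option autoImplicit false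
set_option linter.unusedSectionVars false

namespace Cfsg.Agent.H166.TwDiag

open Cfsg.Lie Cfsg.Agent.ChevalleyStructure Cfsg.Agent.ChevalleyStructure.Elts
open Cfsg.Agent.H70.ChevDiag
open Cfsg.Agent.Nodes.RGDTwGen Cfsg.Agent.Nodes.RGDFold Cfsg.Agent.Nodes.RGDFoldSL Cfsg.Agent.Nodes.RGDChev
open Cfsg.Agent.KFacts Cfsg.Agent.KFacts.RgdDiag Cfsg.Agent.Nodes.BNOf
open Cfsg.Agent.Tits.Roots Cfsg.Agent.ChevalleyStructure.TwistedU

universe u

variable {D : ChevalleyDatum} (hD : InList D) {K : Type u} [Field K] {χ : ℕ → Kˣ}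

theorem IsMul.inv (h : IsMul D χ) : IsMul D fun r => (χ r)⁻¹ := by
  intro r hr
  refine ⟨by rw [(h r hr).neg], fun e he k q hq => ?_⟩
  rw [(h r hr).chain e he k q hq, mul_inv, inv_pow]

theorem dG_inv : dG D (fun r => (χ r)⁻¹) = (dG D χ)⁻¹ := by
  apply Units.ext
  rw [coe_dG, coe_dG_inv]

theorem conj_nG (h : IsMul D χ) {r : ℕ} (hr : r < D.nroots) {t : K} :
    dG D χ * nG hD r t * (dG D χ)⁻¹ = nG hD r ((χ r : K) * t) := by
  have e : dG D χ * nG hD r t * (dG D χ)⁻¹ = (dG D χ * xG hD r t * (dG D χ)⁻¹) *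
      ((dG D χ * xG hD (D.neg r) (-t⁻¹) * (dG D χ)⁻¹) * (dG D χ * xG hD r t * (dG D χ)⁻¹)) := by
    rw [nG_def]; group
  rw [e, dG_conj hD h, dG_conj hD h, (h r hr).neg, nG_def]
  congr 2
  rw [mul_inv, Units.val_inv_eq_inv_val, mul_neg]

theorem nG_inv (r : ℕ) (t : K) : (nG hD r t)⁻¹ = nG hD r (-t) := by
  rw [nG_def, nG_def, mul_inv_rev, mul_inv_rev, xG_inv, xG_inv, neg_neg, mul_assoc, inv_neg, neg_neg]

include hD in
theorem conj_diag (h : IsMul D χ) {g : GL D.Idx K} (hg : g ∈ D.diagonalSubgroup K) :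
    dG D χ * g * (dG D χ)⁻¹ ∈ D.diagonalSubgroup K := by
  have key : D.diagonalSubgroup K ≤ (D.diagonalSubgroup K).comap (MulAut.conj (dG D χ)).toMonoidHom := by
    rw [diagonal_le_iff hD]
    intro r hr t ht
    show dG D χ * hG hD r t * (dG D χ)⁻¹ ∈ D.diagonalSubgroup K
    have e : dG D χ * hG hD r t * (dG D χ)⁻¹ = hG hD r ((χ r : K) * t) * (hG hD r (χ r : K))⁻¹ := by
      have h1 : dG D χ * hG hD r t * (dG D χ)⁻¹ =
          (dG D χ * nG hD r t * (dG D χ)⁻¹) * (dG D χ * nG hD r (-1) * (dG D χ)⁻¹) := by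
        rw [hG_def]; group
      rw [h1, conj_nG hD h hr, conj_nG hD h hr, hG_def, hG_def, mul_inv_rev, nG_inv, nG_inv, neg_neg, mul_neg,
        mul_one]
      have h2 : nG hD r (-1 : K) * nG hD r 1 = 1 := by
        rw [← nG_inv, inv_mul_cancel]
      rw [mul_assoc, ← mul_assoc (nG hD r (-1)), h2, one_mul]
    rw [e]
    exact mul_mem (hG_mem_diagonal hD hr (mul_ne_zero (χ r).ne_zero ht))
      (inv_mem (hG_mem_diagonal hD hr (χ r).ne_zero))
  exact key hg

theorem conj_rspan (h : IsMul D χ) (S : Set ℕ) {g : GL D.Idx K} (hg : g ∈ rspan (xG hD) S) :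
    dG D χ * g * (dG D χ)⁻¹ ∈ rspan (xG hD) S := by
  have key : rspan (xG hD) S ≤ (rspan (xG hD) S).comap (MulAut.conj (dG D χ)).toMonoidHom := by
    refine rspan_le (xG hD) fun s hs t => ?_
    show dG D χ * xG hD s t * (dG D χ)⁻¹ ∈ rspan (xG hD) S
    rw [dG_conj hD h]
    exact mem_rspan (xG hD) hs _
  exact key hg

variable {G : Subgroup (GL D.Idx K)}
  (hG : ∀ g ∈ G, dG D χ * g * (dG D χ)⁻¹ ∈ G) (hG' : ∀ g ∈ G, (dG D χ)⁻¹ * g * dG D χ ∈ G)

/-- Conjugation by `dG D χ` as an automorphism of `G`. -/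
def dgA : MulAut ↥G where
  toFun g := ⟨dG D χ * (g : GL D.Idx K) * (dG D χ)⁻¹, hG g g.2⟩
  invFun g := ⟨(dG D χ)⁻¹ * (g : GL D.Idx K) * dG D χ, hG' g g.2⟩
  left_inv g := Subtype.ext (by simp [mul_assoc])
  right_inv g := Subtype.ext (by simp [mul_assoc])
  map_mul' g g' := Subtype.ext (by simp [mul_assoc])

theorem coe_dgA (g : ↥G) : ((dgA hG hG' g : ↥G) : GL D.Idx K) = dG D χ * (g : GL D.Idx K) * (dG D χ)⁻¹ := rfl

include hD in
theorem fix_dgA_T (h : IsMul D χ) : RgdAut.Fix (dgA hG hG') ((D.diagonalSubgroup K ⊓ G).subgroupOf G) := by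
  intro y
  rw [Subgroup.mem_subgroupOf, Subgroup.mem_subgroupOf, Subgroup.mem_inf, Subgroup.mem_inf, coe_dgA]
  constructor
  · rintro ⟨h1, -⟩
    refine ⟨?_, y.2⟩
    have h2 := conj_diag hD (IsMul.inv h) h1
    rw [dG_inv, inv_inv] at h2
    have e : (dG D χ)⁻¹ * (dG D χ * (y : GL D.Idx K) * (dG D χ)⁻¹) * dG D χ = y := by group
    rwa [e] at h2
  · rintro ⟨h1, -⟩
    exact ⟨conj_diag hD h h1, hG y y.2⟩

theorem fix_dgA_X (h : IsMul D χ) {S : Set ℕ} {H : Subgroup (GL D.Idx K)} (hGH : G ≤ H) :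
    RgdAut.Fix (dgA hG hG') ((rspan (xG hD) S ⊓ H).subgroupOf G) := by
  intro y
  rw [Subgroup.mem_subgroupOf, Subgroup.mem_subgroupOf, Subgroup.mem_inf, Subgroup.mem_inf, coe_dgA]
  constructor
  · rintro ⟨h1, -⟩
    refine ⟨?_, hGH y.2⟩
    have h2 := conj_rspan hD (IsMul.inv h) S h1
    rw [dG_inv, inv_inv] at h2
    have e : (dG D χ)⁻¹ * (dG D χ * (y : GL D.Idx K) * (dG D χ)⁻¹) * dG D χ = y := by group
    rwa [e] at h2
  · rintro ⟨h1, -⟩
    exact ⟨conj_rspan hD h S h1, hGH (hG y y.2)⟩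

theorem conj_yv (h : IsMul D χ) {φ : K →+* K} {o : List ℕ} {r : ℕ} {c : K}
    (hc : ∀ k < (r :: o).length, (χ ((r :: o).getD k 0) : K) = φ^[k] c) (a : K) :
    dG D χ * yv (xG hD) φ (r :: o) a * (dG D χ)⁻¹ = yv (xG hD) φ (r :: o) (c * a) := by
  generalize hl : r :: o = l at hc ⊢
  clear hl
  induction l generalizing a c with
  | nil => show dG D χ * 1 * (dG D χ)⁻¹ = 1; group
  | cons s l ih =>
    show dG D χ * (xG hD s a * yv (xG hD) φ l (φ a)) * (dG D χ)⁻¹ = xG hD s (c * a) * yv (xG hD) φ l (φ (c * a))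
    have e : dG D χ * (xG hD s a * yv (xG hD) φ l (φ a)) * (dG D χ)⁻¹ =
        (dG D χ * xG hD s a * (dG D χ)⁻¹) * (dG D χ * yv (xG hD) φ l (φ a) * (dG D χ)⁻¹) := by group
    have h0 := hc 0 (by simp)
    have h0' : (χ s : K) = c := h0
    rw [e, dG_conj hD h, h0', map_mul, ih (c := φ c)]
    intro k hk
    have h1 := hc (k + 1) (by simpa using hk)
    rw [List.getD_cons_succ] at h1
    rw [h1, Function.iterate_succ_apply]

end Cfsg.Agent.H166.TwDiag
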