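import Mathlib
import Cfsg.Prelude.Def_KGroupFacts
import Cfsg.Agent.KFacts.RgdRigid
import Cfsg.Agent.KFacts.RgdNodes
import Cfsg.Agent.H166.TwDiag
import Cfsg.Agent.H166.FieldAut
import Cfsg.Agent.CpAut.RgdTwE6
import Cfsg.Agent.S1102
set_option linter.all false

-- part: H166/OutRGD
section
/-!
# The order of the outer automorphism group of a group with a root group datum

`card_out` : `|T| * |Out Y| = |Frame|` for a finite centreless group `Y` with a root group datum, `Frame` the group of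
the automorphisms fixing `U` and `U⁻`.
-/

set_option autoImplicit false
set_option linter.unusedSectionVars false

namespace Cfsg.Agent.H166.OutRGD

open CoxeterSystem Cfsg.Agent.ChevalleyStructure.CoxeterGeom Cfsg.Agent.Tits.Roots Cfsg.Agent.Tits.Core
  Cfsg.Agent.Tits.Exchange Cfsg.Agent.Nodes.Reps Cfsg.Agent.Nodes.BNOf Cfsg.Agent.Nodes.StabComb
  Cfsg.Agent.Nodes.Bruhat Cfsg.Agent.Nodes.OppDec Cfsg.Agent.Nodes.LeviDec Cfsg.Agent.Nodes.NormalForm
  Cfsg.Agent.KFacts.RgdOpp Cfsg.Agent.KFacts.RgdAut Cfsg.Agent.KFacts.RgdDiag Cfsg.Agent.KFacts.RgdRigid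

open scoped Pointwise

universe u

/-- Abstract counting: `F ≤ Aut Y` with `Aut Y = Inn Y * F`, `F ∩ Inn Y = conj T`, `T ∩ Z(Y) = 1`. -/
theorem card_out_of {Y : Type u} [Group Y] (F : Subgroup (MulAut Y)) (T : Subgroup Y)
    (h1 : ∀ α : MulAut Y, ∃ g : Y, MulAut.conj g * α ∈ F)
    (h2 : ∀ g : Y, MulAut.conj g ∈ F ↔ g ∈ T)
    (h3 : ∀ t ∈ T, (MulAut.conj t : MulAut Y) = 1 → t = 1) :
    Nat.card ↥T * Nat.card (Cfsg.Out Y) = Nat.card ↥F := by
  let f : ↥F →* Cfsg.Out Y := (QuotientGroup.mk' (Cfsg.Inn Y)).comp F.subtype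
  have hf : Function.Surjective f := by
    intro x
    obtain ⟨α, rfl⟩ := QuotientGroup.mk'_surjective (Cfsg.Inn Y) x
    obtain ⟨g, hg⟩ := h1 α
    refine ⟨⟨_, hg⟩, ?_⟩
    show QuotientGroup.mk' (Cfsg.Inn Y) (MulAut.conj g * α) = _
    rw [map_mul]
    have : QuotientGroup.mk' (Cfsg.Inn Y) (MulAut.conj g) = 1 :=
      (QuotientGroup.eq_one_iff _).2 ⟨g, rfl⟩
    rw [this, one_mul]
  let j : ↥T → ↥f.ker := fun t => ⟨⟨MulAut.conj t.1, (h2 _).2 t.2⟩, (QuotientGroup.eq_one_iff _).2 ⟨t.1, rfl⟩⟩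
  have hj : Function.Bijective j := by
    constructor
    · intro a b hab
      have e : (MulAut.conj a.1 : MulAut Y) = MulAut.conj b.1 := congrArg (fun z => z.1.1) hab
      have e1 : (MulAut.conj (a.1 * b.1⁻¹) : MulAut Y) = 1 := by
        rw [map_mul, map_inv, e, mul_inv_cancel]
      exact Subtype.ext (mul_inv_eq_one.1 (h3 _ (mul_mem a.2 (inv_mem b.2)) e1))
    · rintro ⟨⟨β, hβ⟩, hk⟩
      obtain ⟨g, hg⟩ := (QuotientGroup.eq_one_iff (N := Cfsg.Inn Y) _).1 hk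
      have hg' : MulAut.conj g = β := hg
      subst hg'
      exact ⟨⟨g, (h2 g).1 hβ⟩, rfl⟩
  have hc := f.ker.card_mul_index
  rw [Subgroup.index_ker, MonoidHom.range_eq_top.2 hf, Subgroup.card_top, ← Nat.card_congr (Equiv.ofBijective j hj)] at hc
  exact hc

variable {I W : Type*} {Y : Type u} [Fintype I] [DecidableEq I] [Group W] [Group Y] {M : CoxeterMatrix I}
  {cs : CoxeterSystem M W} {A : I → I → ℤ} {h : IsCartan M A} {p : ℕ} {T : Subgroup Y} {n : I → Y}
  {X : (I → ℤ) → Subgroup Y}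

variable (R : RGD cs h p T n X)

include R

theorem fix_conj_tor {t : Y} (ht : t ∈ T) : MulAut.conj t ∈ Frame cs h X := by
  have key : ∀ x, IsRoot cs h x → ∀ s ∈ T, ∀ y, y ∈ X x → s * y * s⁻¹ ∈ X x := by
    intro x hx s hs y hy
    have h1 := R.tor x hx s hs
    rw [← h1, mem_cj]
    have e : s⁻¹ * (s * y * s⁻¹) * s = y := by group
    rwa [e]
  have key2 : ∀ (S : Set (I → ℤ)), (∀ x ∈ S, IsRoot cs h x) → Fix (MulAut.conj t) (RGD.Sup X S) := by
    intro S hS
    have h1 : ∀ s ∈ T, ∀ y, y ∈ RGD.Sup X S → s * y * s⁻¹ ∈ RGD.Sup X S := by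
      intro s hs
      have h2 : RGD.Sup X S ≤ (RGD.Sup X S).comap (MulAut.conj s).toMonoidHom := by
        refine RGD.Sup_le ?_
        intro x hx y hy
        exact RGD.le_Sup hx (key x (hS x hx) s hs y hy)
      intro y hy
      exact h2 hy
    intro y
    rw [MulAut.conj_apply]
    refine ⟨fun hy => ?_, fun hy => h1 t ht y hy⟩
    have h2 := h1 t⁻¹ (inv_mem ht) _ hy
    have e : t⁻¹ * (t * y * t⁻¹) * t⁻¹⁻¹ = y := by group
    rwa [e] at h2
  rw [mem_Frame]
  exact ⟨key2 _ fun x hx => hx.1, key2 _ fun x hx => hx.1⟩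

/-- An inner automorphism fixing `U` and `U⁻` comes from the torus. -/
theorem mem_T_of_frame [Finite W] (hG : GG cs h T X = ⊤) {g : Y} (hg : MulAut.conj g ∈ Frame cs h X) : g ∈ T := by
  have h3 : g ∈ RGD.B cs h T X := by
    rw [← normalizer_U' R hG, Subgroup.mem_normalizer_iff]
    intro y
    rw [← MulAut.conj_apply]
    exact (hg.1 y).symm
  have h4 : g ∈ BN cs h T X := by
    rw [← normalizer_UN R hG, Subgroup.mem_normalizer_iff]
    intro y
    rw [← MulAut.conj_apply]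
    exact (hg.2 y).symm
  rw [← B_inf_BN R]
  exact ⟨h3, h4⟩

/-- **The order of the outer automorphism group.** -/
theorem card_out [Finite W] [Finite Y] [Fact p.Prime] (hG : GG cs h T X = ⊤) (hU : ¬ p ∣ (RGD.Sup X (RGD.Pos cs h)).index)
    (hZ : ∀ t ∈ T, (∀ y : Y, t * y = y * t) → t = 1) :
    Nat.card ↥T * Nat.card (Cfsg.Out Y) = Nat.card ↥(Frame cs h X) := by
  refine card_out_of (Frame cs h X) T ?_ ?_ ?_
  · intro α
    let S : Sylow p Y := R.isPGroup_Upos.toSylow hU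
    have hS : (S : Subgroup Y) = RGD.Sup X (RGD.Pos cs h) := rfl
    obtain ⟨x, hx⟩ := MulAction.exists_smul_eq Y (α • S) S
    have h1 : (S : Subgroup Y).map (MulAut.conj x * α).toMonoidHom = S := by
      have h2 := congrArg (fun S : Sylow p Y => (S : Subgroup Y)) hx
      simp only [Sylow.smul_def, Sylow.pointwise_smul_def] at h2
      rw [smul_smul] at h2
      exact h2
    have h2 : Fix (MulAut.conj x * α) (RGD.Sup X (RGD.Pos cs h)) := by
      rw [fix_iff, ← hS]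
      exact h1
    obtain ⟨u, hu, h3, -, h4, -⟩ := exists_frame R hG h2
    refine ⟨u * x, ?_⟩
    rw [map_mul, mul_assoc]
    exact ⟨h3, h4⟩
  · intro g
    exact ⟨fun hg => mem_T_of_frame R hG hg, fun hg => fix_conj_tor R hg⟩
  · intro t ht he
    refine hZ t ht fun y => ?_
    have h1 := congrArg (fun β : MulAut Y => β y) he
    have h2 : t * y * t⁻¹ = y := h1
    rw [← mul_inv_eq_iff_eq_mul]
    exact h2

end Cfsg.Agent.H166.OutRGD
end

-- part: H166/OutNodes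
section
/-!
# The frame group in coordinates

`card_frame` : the order of the group of automorphisms fixing `U` and `U⁻`, all diagram symmetries being trivial, the
field automorphisms of the nodes being parametrised by `Γ`, and all semilinear data being realised.
-/

set_option autoImplicit false
set_option linter.unusedSectionVars false

namespace Cfsg.Agent.H166.OutNodes

open CoxeterSystem Cfsg.Agent.ChevalleyStructure.CoxeterGeom Cfsg.Agent.Tits.Roots Cfsg.Agent.Tits.Core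
  Cfsg.Agent.Tits.Exchange Cfsg.Agent.Nodes.Reps Cfsg.Agent.Nodes.BNOf Cfsg.Agent.Nodes.StabComb
  Cfsg.Agent.Nodes.Bruhat Cfsg.Agent.Nodes.OppDec Cfsg.Agent.Nodes.LeviDec Cfsg.Agent.Nodes.NormalForm
  Cfsg.Agent.KFacts.RgdOpp Cfsg.Agent.KFacts.RgdAut Cfsg.Agent.KFacts.RgdDiag Cfsg.Agent.KFacts.RgdRigid
  Cfsg.Agent.KFacts.RgdField Cfsg.Agent.KFacts.RgdTau Cfsg.Agent.KFacts.RgdNodes

universe u v

variable {I W : Type*} {Y : Type u} [Fintype I] [DecidableEq I] [Group W] [Group Y] {M : CoxeterMatrix I}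
  {cs : CoxeterSystem M W} {A : I → I → ℤ} {h : IsCartan M A} {p : ℕ} {T : Subgroup Y} {n : I → Y}
  {X : (I → ℤ) → Subgroup Y}

theorem mem_frame_of_diag (R : RGD cs h p T n X) [Finite W] {β : MulAut Y} (D : Diag T X β 1) :
    β ∈ Frame cs h X := by
  have key : ∀ (β : MulAut Y), Diag T X β 1 → ∀ (S : Set (I → ℤ)), (∀ x ∈ S, IsRoot cs h x) →
      ∀ y ∈ RGD.Sup X S, β y ∈ RGD.Sup X S := by
    intro β D S hS
    have h1 : RGD.Sup X S ≤ (RGD.Sup X S).comap β.toMonoidHom := by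
      refine RGD.Sup_le ?_
      intro x hx y hy
      have h2 := (D.root_comp R (fun _ _ => rfl) (hS x hx) y).2 hy
      exact RGD.le_Sup hx h2
    intro y hy
    exact h1 hy
  have key2 : ∀ (S : Set (I → ℤ)), (∀ x ∈ S, IsRoot cs h x) → Fix β (RGD.Sup X S) := by
    intro S hS y
    refine ⟨fun hy => ?_, key β D S hS y⟩
    have h2 := key β⁻¹ (by have := D.inv; rwa [inv_one] at this) S hS _ hy
    rwa [MulAut.inv_apply_self] at h2
  rw [mem_Frame]
  exact ⟨key2 _ fun x hx => hx.1, key2 _ fun x hx => hx.1⟩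

variable {K : I → Type v} [∀ i, Field (K i)] {x : ∀ i, K i → Y} {χ : ∀ i, Y → K i}

/-- The semilinear data of a frame automorphism. -/
def Semi (T : Subgroup Y) (X : (I → ℤ) → Subgroup Y) (x : ∀ i, K i → Y) {Γ : Type*} (r : Γ → ∀ i, K i ≃+* K i)
    (β : MulAut Y) (g : Γ × (∀ i, (K i)ˣ)) : Prop :=
  Diag T X β 1 ∧ ∀ i a, β (x i a) = x i ((g.2 i : K i) * r g.1 i a)

theorem card_frame (R : RGD cs h p T n X) [Finite W] (C : ∀ i, Coord T (X (sr i)) (x i) (χ i))
    (hG1 : RGD.Sup X {x | IsRoot cs h x} = ⊤)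
    (hone : ∀ σ : Equiv.Perm I, (∀ i j, M (σ i) (σ j) = M i j) →
      (∀ i, Nat.card ↥(X (sr (σ i))) = Nat.card ↥(X (sr i))) → σ = 1)
    {Γ : Type*} (r : Γ → ∀ i, K i ≃+* K i) (hr : Function.Injective r)
    (h1 : ∀ β : MulAut Y, Diag T X β 1 → ∃ γ, NTau T X χ β (r γ))
    (h2 : ∀ g : Γ × (∀ i, (K i)ˣ), ∃ β, Semi T X x r β g) :
    Nat.card ↥(Frame cs h X) = Nat.card Γ * ∏ i, Nat.card (K i)ˣ := by
  choose f hf using h2
  have hmem : ∀ g, f g ∈ Frame cs h X := fun g => mem_frame_of_diag R (hf g).1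
  have hinj : Function.Injective (fun g => (⟨f g, hmem g⟩ : ↥(Frame cs h X))) := by
    intro g g' hgg
    have e : f g = f g' := congrArg Subtype.val hgg
    have h3 : ∀ i a, (g.2 i : K i) * r g.1 i a = (g'.2 i : K i) * r g'.1 i a := by
      intro i a
      apply (C i).inj
      rw [← (hf g).2 i a, ← (hf g').2 i a, e]
    have h4 : g.2 = g'.2 := by
      funext i
      have := h3 i 1
      rw [map_one, map_one, mul_one, mul_one] at this
      exact Units.ext this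
    have h5 : g.1 = g'.1 := by
      apply hr
      funext i
      ext a
      have := h3 i a
      rw [h4] at this
      exact mul_left_cancel₀ (g'.2 i).ne_zero this
    exact Prod.ext h5 h4
  have hsurj : Function.Surjective (fun g => (⟨f g, hmem g⟩ : ↥(Frame cs h X))) := by
    rintro ⟨β, hβ⟩
    obtain ⟨σ, D⟩ := exists_diag R (GG_eq_top hG1) hβ.1 hβ.2
    have h3 := hone σ (D.matrix R) (Diag.card_eq D)
    subst h3
    obtain ⟨γ, S⟩ := h1 β D
    have h4 := fun i => NTau.semi C S i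
    choose c hc hx using h4
    refine ⟨(γ, fun i => Units.mk0 (c i) (hc i)), Subtype.ext ?_⟩
    obtain ⟨D', hx'⟩ := hf (γ, fun i => Units.mk0 (c i) (hc i))
    show f _ = β
    have D'' : Diag T X (β⁻¹ * f (γ, fun i => Units.mk0 (c i) (hc i))) 1 := by
      have := D.inv.mul D'
      rwa [inv_one, mul_one] at this
    have h5 := Diag.eq_one R hG1 D'' (by
      intro i y hy
      obtain ⟨a, rfl⟩ := ((C i).mem y).1 hy
      rw [MulAut.mul_apply, hx' i a]
      show β⁻¹ (x i (c i * r γ i a)) = _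
      rw [← hx, MulAut.inv_apply_self])
    exact (inv_mul_eq_one.1 h5).symm
  rw [← Nat.card_congr (Equiv.ofBijective _ ⟨hinj, hsurj⟩), Nat.card_prod, Nat.card_pi]

end Cfsg.Agent.H166.OutNodes
end

-- part: H166/OutTwESix
section
/-!
# The outer automorphism group of `²E₆(q)`
-/

set_option autoImplicit false
set_option linter.unusedSectionVars false
set_option maxHeartbeats 400000

namespace Cfsg.Agent.H166.OutTwESix

open CoxeterSystem Cfsg.Agent.ChevalleyStructure.CoxeterGeom Cfsg.Agent.Tits.Roots Cfsg.Agent.Tits.Core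
  Cfsg.Agent.Tits.Exchange Cfsg.Agent.Nodes.Reps Cfsg.Agent.Nodes.BNOf Cfsg.Agent.Nodes.StabComb
  Cfsg.Agent.Nodes.Bruhat Cfsg.Agent.Nodes.OppDec Cfsg.Agent.Nodes.RGDTwGen Cfsg.Agent.Nodes.RGDChev
  Cfsg.Agent.Nodes.RGDFold Cfsg.Agent.Nodes.RGDFoldSL
open Cfsg.Agent.KFacts.RgdOpp Cfsg.Agent.KFacts.RgdAut Cfsg.Agent.KFacts.RgdDiag Cfsg.Agent.KFacts.RgdRigid
  Cfsg.Agent.KFacts.RgdField Cfsg.Agent.KFacts.RgdTau Cfsg.Agent.KFacts.RgdNodes
open Cfsg.Lie Cfsg.Agent.ChevalleyStructure Cfsg.Agent.ChevalleyStructure.Elts Cfsg.Agent.ChevStructure.FieldMap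
open Cfsg.Agent.ChevalleyStructure.SL2Hom (up lo)
open Cfsg.Agent.KFacts.TwESix.NodeCoord Cfsg.Agent.KFacts.TwESix.Out Cfsg.Agent.KFacts.TwESix.OutTwo
open Cfsg.Agent.Nodes.RGDTwE6 Cfsg.Agent.Nodes.RGDTwNode.E6
open Cfsg.Agent.ChevalleyStructure.TwE6Basic (hE6 single_mem pair_mem twisted_le_iff exists_frob twisted_le_fix)
open Cfsg.Agent.H70.ChevDiag Cfsg.Agent.H166.TwDiag Cfsg.Agent.H166.OutNodes Cfsg.Agent.H166.OutRGD
open Cfsg.Agent.CpAut.RgdTwE6 (st rs st_up ntau_st ntau_of_ftau tau_phi coe_up)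
open Cfsg.Agent.ChevalleyStructure.TwistedU (rspan)

universe u

/-- The centre of a nonabelian simple group is trivial. -/
theorem eq_one_of_central {G : Type*} [Group G] (h : IsSimpleGroup G ∧ ¬ IsMulCommutative G) {t : G}
    (ht : ∀ y, t * y = y * t) : t = 1 := by
  have := h.1
  have h1 : t ∈ Subgroup.center G := Subgroup.mem_center_iff.2 fun y => (ht y).symm
  rcases (inferInstance : (Subgroup.center G).Normal).eq_bot_or_eq_top with h2 | h2
  · rwa [h2, Subgroup.mem_bot] at h1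
  · exfalso
    apply h.2
    refine ⟨⟨fun a b => ?_⟩⟩
    have h3 : b ∈ Subgroup.center G := by rw [h2]; exact Subgroup.mem_top b
    exact Subgroup.mem_center_iff.1 h3 a

/-- Units of a subfield. -/
theorem card_units_subfield {K : Type*} [Field K] (F : Subfield K) (P : K → Prop) (h : ∀ a, a ∈ F ↔ P a) :
    Nat.card (↥F)ˣ = Nat.card {b : Kˣ // P b} := by
  refine Nat.card_congr
    { toFun := fun b => ⟨Units.map (F.subtype : F →* K) b, (h _).1 (b : F).2⟩
      invFun := fun b => Units.mk0 ⟨((b : Kˣ) : K), (h _).2 b.2⟩ (fun e => (b : Kˣ).ne_zero (congrArg Subtype.val e))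
      left_inv := fun b => Units.ext (Subtype.ext rfl)
      right_inv := fun b => Subtype.ext (Units.ext rfl) }

section Diag

variable {K : Type u} [Field K] {q : ℕ} {χ : ℕ → Kˣ}

/-- The characters preserving the twisted group. -/
def Ok (q : ℕ) (χ : ℕ → Kˣ) : Prop :=
  (∀ r ∈ [46, 25, 39, 32], χ r ^ q = χ r) ∧
  ∀ rs ∈ [(56, 36), (15, 35), (42, 37), (29, 34)], χ rs.2 = χ rs.1 ^ q

theorem Ok.inv (h : Ok q χ) : Ok q fun r => (χ r)⁻¹ :=
  ⟨fun r hr => by rw [inv_pow, h.1 r hr], fun rs hrs => by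
    show (χ rs.2)⁻¹ = (χ rs.1)⁻¹ ^ q
    rw [h.2 rs hrs, inv_pow]⟩

theorem conj_mem (hM : IsMul chevE6 χ) (h : Ok q χ) : ∀ g ∈ twistedE6 K q,
    dG chevE6 χ * g * (dG chevE6 χ)⁻¹ ∈ twistedE6 K q := by
  have key : twistedE6 K q ≤ (twistedE6 K q).comap (MulAut.conj (dG chevE6 χ)).toMonoidHom := by
    rw [twisted_le_iff]
    refine ⟨fun t ht r hr => ?_, fun t rs hrs => ?_⟩
    · show dG chevE6 χ * xG hE6 r t * (dG chevE6 χ)⁻¹ ∈ twistedE6 K q
      rw [dG_conj hE6 hM]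
      refine single_mem ?_ hr
      rw [mul_pow, ht, ← Units.val_pow_eq_pow_val, h.1 r hr]
    · show dG chevE6 χ * (xG hE6 rs.1 t * xG hE6 rs.2 (t ^ q)) * (dG chevE6 χ)⁻¹ ∈ twistedE6 K q
      have e : dG chevE6 χ * (xG hE6 rs.1 t * xG hE6 rs.2 (t ^ q)) * (dG chevE6 χ)⁻¹ =
          (dG chevE6 χ * xG hE6 rs.1 t * (dG chevE6 χ)⁻¹) * (dG chevE6 χ * xG hE6 rs.2 (t ^ q) * (dG chevE6 χ)⁻¹) := by
        group
      rw [e, dG_conj hE6 hM, dG_conj hE6 hM, h.2 rs hrs, Units.val_pow_eq_pow_val, ← mul_pow]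
      exact pair_mem _ hrs
  exact fun g hg => key hg

theorem conj_mem' (hM : IsMul chevE6 χ) (h : Ok q χ) : ∀ g ∈ twistedE6 K q,
    (dG chevE6 χ)⁻¹ * g * dG chevE6 χ ∈ twistedE6 K q := by
  intro g hg
  have := conj_mem (IsMul.inv hM) h.inv g hg
  rwa [dG_inv, inv_inv] at this

variable [Fintype K] {φ : K →+* K} (hφ : ∀ x, φ x = x ^ q) (hqq : ∀ t : K, (t ^ q) ^ q = t)

include hφ hqq in
theorem diag_dgA (hM : IsMul chevE6 χ) (h : Ok q χ) :
    Diag (T K q) (X φ q) (dgA (conj_mem hM h) (conj_mem' hM h)) 1 :=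
  ⟨fix_dgA_T hE6 _ _ hM, fun i => fix_dgA_X hE6 _ _ hM (twisted_le_fix φ hφ hqq),
    fun i => fix_dgA_X hE6 _ _ hM (twisted_le_fix φ hφ hqq)⟩

theorem simple_tab : ∀ j : Fin 6, chevE6.simple j = ![56, 46, 42, 39, 37, 36] j ∧
    chevE6.neg (chevE6.simple j) = ![15, 25, 29, 32, 34, 35] j := by decide +kernel

include hφ hqq in
theorem exists_dg (c : ∀ i, (KF φ i)ˣ) : ∃ β : MulAut ↥(twistedE6 K q), Diag (T K q) (X φ q) β 1 ∧
    ∀ i a, β (PhiE hφ hqq i (up a)) = PhiE hφ hqq i (up ((c i : KF φ i) * a)) := by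
  let v : Fin 4 → Kˣ := fun i => Units.map ((KF φ i).subtype : KF φ i →* K) (c i)
  have hv : ∀ i, (v i : K) = ((c i : KF φ i) : K) := fun i => rfl
  let c' : Fin 6 → Kˣ := ![v 3, v 0, v 2, v 1, v 2 ^ q, v 3 ^ q]
  obtain ⟨χ, hM, h1, h2⟩ := exists_diagAut hE6 (F := K) c'
  have e0 : χ 56 = v 3 := by have := h1 (0 : Fin 6); rwa [(simple_tab 0).1] at this
  have e1 : χ 46 = v 0 := by have := h1 (1 : Fin 6); rwa [(simple_tab 1).1] at this
  have e2 : χ 42 = v 2 := by have := h1 (2 : Fin 6); rwa [(simple_tab 2).1] at this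
  have e3 : χ 39 = v 1 := by have := h1 (3 : Fin 6); rwa [(simple_tab 3).1] at this
  have e4 : χ 37 = v 2 ^ q := by have := h1 (4 : Fin 6); rwa [(simple_tab 4).1] at this
  have e5 : χ 36 = v 3 ^ q := by have := h1 (5 : Fin 6); rwa [(simple_tab 5).1] at this
  have n0 : χ 15 = (v 3)⁻¹ := by have := h2 (0 : Fin 6); rwa [(simple_tab 0).2] at this
  have n1 : χ 25 = (v 0)⁻¹ := by have := h2 (1 : Fin 6); rwa [(simple_tab 1).2] at this
  have n2 : χ 29 = (v 2)⁻¹ := by have := h2 (2 : Fin 6); rwa [(simple_tab 2).2] at this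
  have n3 : χ 32 = (v 1)⁻¹ := by have := h2 (3 : Fin 6); rwa [(simple_tab 3).2] at this
  have n4 : χ 34 = (v 2 ^ q)⁻¹ := by have := h2 (4 : Fin 6); rwa [(simple_tab 4).2] at this
  have n5 : χ 35 = (v 3 ^ q)⁻¹ := by have := h2 (5 : Fin 6); rwa [(simple_tab 5).2] at this
  have f0 : v 0 ^ q = v 0 := by
    apply Units.ext
    rw [Units.val_pow_eq_pow_val, ← hφ, hv]
    have := (c 0 : KF φ 0).2
    rwa [mem_Fx] at this
  have f1 : v 1 ^ q = v 1 := by
    apply Units.ext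
    rw [Units.val_pow_eq_pow_val, ← hφ, hv]
    have := (c 1 : KF φ 1).2
    rwa [mem_Fx] at this
  have hok : Ok q χ := by
    constructor
    · intro r hr
      simp only [List.mem_cons, List.not_mem_nil, or_false] at hr
      rcases hr with rfl | rfl | rfl | rfl
      · rw [e1, f0]
      · rw [n1, inv_pow, f0]
      · rw [e3, f1]
      · rw [n3, inv_pow, f1]
    · intro r hr
      simp only [List.mem_cons, List.not_mem_nil, or_false] at hr
      rcases hr with rfl | rfl | rfl | rfl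
      · show χ 36 = χ 56 ^ q
        rw [e5, e0]
      · show χ 35 = χ 15 ^ q
        rw [n5, n0, inv_pow]
      · show χ 37 = χ 42 ^ q
        rw [e4, e2]
      · show χ 34 = χ 29 ^ q
        rw [n4, n2, inv_pow]
  refine ⟨dgA (conj_mem hM hok) (conj_mem' hM hok), diag_dgA hφ hqq hM hok, fun i a => ?_⟩
  apply Subtype.ext
  rw [coe_dgA, coe_up, coe_up, conj_yv hE6 hM (c := ((c i : KF φ i) : K))]
  · rfl
  intro k hk
  have hi : i = 0 ∨ i = 1 ∨ i = 2 ∨ i = 3 := by fin_cases i <;> simp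
  rcases hi with rfl | rfl | rfl | rfl
  · have hk' : k < 1 := hk
    obtain rfl : k = 0 := by omega
    show (χ 46 : K) = _
    rw [e1]; rfl
  · have hk' : k < 1 := hk
    obtain rfl : k = 0 := by omega
    show (χ 39 : K) = _
    rw [e3]; rfl
  · have hk' : k < 2 := hk
    have hk2 : k = 0 ∨ k = 1 := by omega
    rcases hk2 with rfl | rfl
    · show (χ 42 : K) = _
      rw [e2]; rfl
    · show (χ 37 : K) = φ _
      rw [e4, hφ, Units.val_pow_eq_pow_val]; rfl
  · have hk' : k < 2 := hk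
    have hk2 : k = 0 ∨ k = 1 := by omega
    rcases hk2 with rfl | rfl
    · show (χ 56 : K) = _
      rw [e0]; rfl
    · show (χ 36 : K) = φ _
      rw [e5, hφ, Units.val_pow_eq_pow_val]; rfl

end Diag

section Main

variable {K : Type u} [Field K] [Fintype K] {q : ℕ} {φ : K →+* K} (hφ : ∀ x, φ x = x ^ q)
  (hqq : ∀ t : K, (t ^ q) ^ q = t) {W : Type*} [Group W] (cs : CoxeterSystem CoxeterMatrix.F₄ W)

include hφ hqq in
theorem rs_inj : Function.Injective (rs hφ : (K ≃+* K) → ∀ i, KF φ i ≃+* KF φ i) := by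
  intro τ τ' h
  ext a
  have h1 : a ∈ KF φ 2 := by
    have := F2_eq_top hφ hqq
    show a ∈ Fx φ 2
    rw [this]
    exact Subfield.mem_top a
  have h2 := congrArg (fun f : ∀ i, KF φ i ≃+* KF φ i => ((f 2 ⟨a, h1⟩ : KF φ 2) : K)) h
  exact h2

include cs hφ hqq in
theorem card_frame_eq [Finite W] (p : ℕ) [Fact p.Prime] [CharP K p] (hK : Fintype.card K = q ^ 2) (hq1 : 1 < q) :
    Nat.card ↥(Frame cs isCartan (X φ q)) = Nat.card (K ≃+* K) * ∏ i, Nat.card (KF φ i)ˣ := by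
  have R := Cfsg.Agent.Nodes.RGDTwE6.rgd cs hφ hqq p
  refine card_frame R (coordE hφ hqq) (G1_top cs hφ hqq) ?_ (rs hφ) (rs_inj hφ hqq) ?_ ?_
  · intro σ hσ hc
    apply perm_F4 σ hσ
    intro h3
    have h4 := hc 0
    rw [h3] at h4
    exact card_ne hφ hqq hK hq1 h4
  · intro β D
    obtain ⟨τ, S⟩ := exists_ftau hφ hqq cs p D
    exact ⟨τ, ntau_of_ftau hφ hqq S⟩
  · rintro ⟨τ, c⟩
    obtain ⟨β, D, hβ⟩ := exists_dg hφ hqq c
    refine ⟨β * st q τ, ?_, fun i a => ?_⟩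
    · have := D.mul (ntau_st hφ hqq τ cs p).diag
      rwa [mul_one] at this
    · rw [MulAut.mul_apply, st_up, hβ]

include hφ in
theorem card_units_long (hK : Fintype.card K = q ^ 2) (hq : 1 < q) : Nat.card (↥(Fx φ 1))ˣ = q - 1 := by
  rw [← Cfsg.Agent.ChevalleyStructure.D4H1.card_fixed hq hK hφ]
  have hm : ∀ a : K, a ∈ Fx φ 1 ↔ φ a = a := fun a => by rw [mem_Fx, Function.iterate_one]
  exact card_units_subfield (Fx φ 1) _ hm

include hφ hqq in
theorem card_units_short (hK : Fintype.card K = q ^ 2) : Nat.card (↥(Fx φ 2))ˣ = q ^ 2 - 1 := by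
  have h1 : Nat.card (↥(Fx φ 2))ˣ = Nat.card {b : Kˣ // True} :=
    card_units_subfield (Fx φ 2) (fun _ => True) (fun a => by rw [F2_eq_top hφ hqq]; simp)
  rw [h1, Nat.card_congr (Equiv.subtypeUnivEquiv fun _ => trivial),
    Cfsg.Agent.ChevalleyStructure.D4H1.natCard_units hK]

include cs hφ hqq in
theorem card_out_eq [Finite W] (p f : ℕ) [Fact p.Prime] [CharP K p] (hq : IsPrimePow q) (hK : Fintype.card K = q ^ 2)
    (hf : Fintype.card K = p ^ f) :
    Nat.card (Cfsg.Out ↥(twistedE6 K q)) = Nat.gcd 3 (q + 1) * f := by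
  have R := Cfsg.Agent.Nodes.RGDTwE6.rgd cs hφ hqq p
  have hZ : ∀ t ∈ T K q, (∀ y : ↥(twistedE6 K q), t * y = y * t) → t = 1 := fun t _ ht =>
    eq_one_of_central (Cfsg.Agent.S1070.result hq hK) ht
  have h1 := card_out R (GG_eq_top (G1_top cs hφ hqq)) (not_dvd_index hφ hqq cs p) hZ
  rw [card_frame_eq hφ hqq cs p hK hq.one_lt, Cfsg.Agent.H166.FieldAut.card_ringAut p f hf] at h1
  have h2 : ∏ i, Nat.card (KF φ i)ˣ = (q - 1) * (q - 1) * (q ^ 2 - 1) * (q ^ 2 - 1) := by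
    rw [Fin.prod_univ_four]
    show Nat.card (↥(Fx φ 1))ˣ * Nat.card (↥(Fx φ 1))ˣ * Nat.card (↥(Fx φ 2))ˣ * Nat.card (↥(Fx φ 2))ˣ = _
    rw [card_units_long hφ hK hq.one_lt, card_units_short hφ hqq hK]
  have h3 : Nat.card ↥(T K q) = Nat.card ↥(chevE6.diagonalSubgroup K ⊓ twistedE6 K q) :=
    Nat.card_congr (Subgroup.subgroupOfEquivOfLe inf_le_right).toEquiv
  have h4 := Cfsg.Agent.S1102.result (K := K) hq hK
  rw [← h3] at h4
  have h5 : (q - 1) * (q - 1) * (q ^ 2 - 1) * (q ^ 2 - 1) = (q - 1) ^ 4 * (q + 1) ^ 2 := by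
    have h6 : q ^ 2 - 1 = (q - 1) * (q + 1) := by
      have := Nat.sq_sub_sq q 1
      rw [one_pow] at this
      rw [this, mul_comm]
    rw [h6]; ring
  rw [h2, h5, ← h4] at h1
  have h7 : 0 < Nat.card ↥(T K q) := Nat.card_pos
  apply Nat.eq_of_mul_eq_mul_left h7
  rw [h1]; ring

end Main

end Cfsg.Agent.H166.OutTwESix
end
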